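import Groth.Agent.BlowUp.Basic
import Groth.Agent.IdealSh.EffCartier
import Groth.Prelude.Def_HTop3

/-!
# The ideal of sections supported on a locally principal closed subscheme; almost blow up squares
-/

set_option autoImplicit false
set_option linter.style.haveILetI false

universe u

open CategoryTheory CategoryTheory.Limits AlgebraicGeometry TopologicalSpace Opposite
open Groth.Agent.IdealSh

namespace Groth.Agent.HTopSq

variable {X T : Scheme.{u}}

theorem awayFrom_inf {J : X.IdealSheafData} {U : X.affineOpens} {f : Γ(X, U.1)}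
    (hf : J.ideal U = Ideal.span {f}) : HTop.awayFrom J ⊓ U.1 = X.basicOpen f := by
  refine Opens.ext ?_
  rw [Regular.basicOpen_eq_compl_support hf, Opens.coe_inf, Set.sdiff_eq, Set.inter_comm]
  rfl

theorem quasiCompact_awayFrom_ι {J : X.IdealSheafData} (hJ : HTop.IsLocPrincipal J) :
    QuasiCompact (HTop.awayFrom J).ι := by
  choose U hxU f hf using hJ
  refine (IsZariskiLocalAtTarget.iff_of_iSup_eq_top (P := @QuasiCompact) (fun x => (U x).1)
    (top_unique fun x _ => Opens.mem_iSup.2 ⟨x, hxU x⟩)).2 fun x => ?_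
  haveI : IsAffine (U x).1.toScheme := (U x).2
  refine (HasAffineProperty.iff_of_isAffine (P := @QuasiCompact)).2 ?_
  refine isCompact_iff_compactSpace.1 ?_
  rw [(HTop.awayFrom J).ι.isOpenEmbedding.isEmbedding.isCompact_iff]
  have : (HTop.awayFrom J).ι '' ((HTop.awayFrom J).ι ⁻¹ᵁ (U x).1 : Set (HTop.awayFrom J).toScheme) =
      ((HTop.awayFrom J ⊓ (U x).1 : X.Opens) : Set X) := by
    rw [Opens.map_coe, Set.image_preimage_eq_inter_range, Scheme.Opens.range_ι, Opens.coe_inf, Set.inter_comm]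
  rw [this, awayFrom_inf (hf x)]
  exact ((U x).2.basicOpen (f x)).isCompact

/-- The ideal of sections supported on `J` is the kernel of the restriction to `D(f)`. -/
theorem mem_supportedOn {J : X.IdealSheafData} (hJ : HTop.IsLocPrincipal J) {U : X.affineOpens}
    {f : Γ(X, U.1)} (hf : J.ideal U = Ideal.span {f}) (a : Γ(X, U.1)) :
    a ∈ (HTop.supportedOn J).ideal U ↔ X.presheaf.map (homOfLE (X.basicOpen_le f)).op a = 0 := by
  haveI := quasiCompact_awayFrom_ι hJ
  rw [HTop.supportedOn, Scheme.Hom.ker_apply, RingHom.mem_ker]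
  have hO : (HTop.awayFrom J).ι ''ᵁ ((HTop.awayFrom J).ι ⁻¹ᵁ U.1) = X.basicOpen f := by
    rw [Scheme.Hom.image_preimage_eq_opensRange_inf, Scheme.Opens.opensRange_ι, awayFrom_inf hf]
  have key : (HTop.awayFrom J).ι.app U.1 ≫ X.presheaf.map (eqToHom hO.symm).op =
      X.presheaf.map (homOfLE (X.basicOpen_le f)).op := by
    rw [Scheme.Opens.ι_app]
    exact (X.presheaf.map_comp _ _).symm
  rw [← key, ConcreteCategory.comp_apply]
  exact (map_eq_zero_iff (X.presheaf.map (eqToHom hO.symm).op).hom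
    (ConcreteCategory.bijective_of_isIso _).1).symm

theorem supportedOn_eq_bot {J : X.IdealSheafData} (hJ : BlowUp.IsEffCartierIdeal J) :
    HTop.supportedOn J = ⊥ := by
  have hJ' : HTop.IsLocPrincipal J := fun x => by
    obtain ⟨U, hxU, f, -, hf⟩ := hJ x
    exact ⟨U, hxU, f, hf⟩
  refine Comap.ext_of_forall_exists _ _ fun x => ?_
  obtain ⟨U, hxU, f, hf0, hf⟩ := hJ x
  refine ⟨U, hxU, ?_⟩
  rw [Scheme.IdealSheafData.ideal_bot, Pi.bot_apply, eq_bot_iff]
  exact fun a ha => Regular.eq_zero_of_restrict_basicOpen U.2 hf0 ((mem_supportedOn hJ' hf a).1 ha)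

theorem supportedOn_le_ker (h : T ⟶ X) {J : X.IdealSheafData}
    (hJ : BlowUp.IsEffCartierIdeal (J.comap h)) : HTop.supportedOn J ≤ h.ker := by
  have hU : HTop.awayFrom (J.comap h) = h ⁻¹ᵁ HTop.awayFrom J := by
    apply Opens.ext
    simp only [HTop.awayFrom, Scheme.IdealSheafData.support_comap]
    rfl
  have hb : (h ⁻¹ᵁ HTop.awayFrom J).ι.ker = (𝟙 T : T ⟶ T).ker := by
    rw [← hU]
    exact (supportedOn_eq_bot hJ).trans (Scheme.Hom.ker_eq_bot_of_isIso (𝟙 T)).symm
  calc HTop.supportedOn J ≤ ((h ∣_ HTop.awayFrom J) ≫ (HTop.awayFrom J).ι).ker := Scheme.Hom.le_ker_comp _ _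
    _ = h.ker := by
      rw [morphismRestrict_ι, Scheme.Hom.ker_comp, hb, ← Scheme.Hom.ker_comp, Category.id_comp]

theorem isEffCartierIdeal_comap_supportedOn {J : X.IdealSheafData} (hJ : HTop.IsLocPrincipal J) :
    BlowUp.IsEffCartierIdeal (J.comap (HTop.supportedOn J).subschemeι) := by
  intro z
  let K := HTop.supportedOn J
  obtain ⟨U, hzU, f, hf⟩ := hJ (K.subschemeι z)
  have hV : IsAffineOpen (K.subschemeι ⁻¹ᵁ U.1) := U.2.preimage _
  refine ⟨⟨_, hV⟩, hzU, K.subschemeι.app U.1 f, mem_nonZeroDivisors_iff_right.2 fun b hb => ?_, ?_⟩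
  · obtain ⟨a, rfl⟩ := K.subschemeι_app_surjective U b
    rw [← map_mul, ← RingHom.mem_ker, K.ker_subschemeι_app, mem_supportedOn hJ hf, map_mul] at hb
    rw [← RingHom.mem_ker, K.ker_subschemeι_app, mem_supportedOn hJ hf]
    exact (IsUnit.mul_left_eq_zero (RingedSpace.isUnit_res_basicOpen X.toLocallyRingedSpace.toRingedSpace f)).1 hb
  · rw [Comap.ideal_comap_app J K.subschemeι U hV, hf, Ideal.map_span, Set.image_singleton]

theorem isLocPrincipal_comap (g : T ⟶ X) {J : X.IdealSheafData} (hJ : HTop.IsLocPrincipal J) :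
    HTop.IsLocPrincipal (J.comap g) := by
  intro t
  obtain ⟨U, htU, f, hf⟩ := hJ (g t)
  obtain ⟨V, htV, hle⟩ := Comap.exists_affine_le t (g ⁻¹ᵁ U.1) htU
  exact ⟨V, htV, _, Comap.ideal_comap_span_singleton J g U V hle hf⟩

theorem ker_isPullback {X Y Z Z' : Scheme.{u}} {i : Z ⟶ X} [IsClosedImmersion i] {g : Y ⟶ X}
    {gZ : Z' ⟶ Z} {i' : Z' ⟶ Y} (h : IsPullback gZ i' i g) : i'.ker = i.ker.comap g := by
  haveI : IsClosedImmersion i' := MorphismProperty.of_isPullback h inferInstance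
  let k := IsClosedImmersion.lift (i.ker).subschemeι i (by rw [Scheme.IdealSheafData.ker_subschemeι])
  have hk : k ≫ i.ker.subschemeι = i := IsClosedImmersion.lift_fac _ _ _
  haveI : IsIso k := by
    let m := IsClosedImmersion.lift i (i.ker).subschemeι (by rw [Scheme.IdealSheafData.ker_subschemeι])
    have hm : m ≫ i = i.ker.subschemeι := IsClosedImmersion.lift_fac _ _ _
    exact ⟨m, by rw [← cancel_mono i, Category.assoc, hm, hk, Category.id_comp],
      by rw [← cancel_mono i.ker.subschemeι, Category.assoc, hk, hm, Category.id_comp]⟩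
  have h' : IsPullback i' (gZ ≫ k) g i.ker.subschemeι :=
    IsPullback.of_iso h.flip (Iso.refl _) (Iso.refl _) (asIso k) (Iso.refl _)
      (by simp) (by simp) (by simp) (by simp [hk])
  rw [Scheme.IdealSheafData.comap, ← h'.isoPullback_hom_fst, Scheme.Hom.ker_comp_of_isIso]

/-- Base change of an almost blow up square. -/
theorem isAlmostBlowUpSquare_baseChange {E Z X' X Y E₁ Z₁ X₁ : Scheme.{u}} {e : E ⟶ X'} {π : E ⟶ Z}
    {b : X' ⟶ X} {i : Z ⟶ X} (h : HTop.IsAlmostBlowUpSquare e π b i) (g : Y ⟶ X) {b₁ : X₁ ⟶ Y}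
    {gX : X₁ ⟶ X'} (hX : IsPullback gX b₁ b g) {i₁ : Z₁ ⟶ Y} {gZ : Z₁ ⟶ Z} (hZ : IsPullback gZ i₁ i g)
    {e₁ : E₁ ⟶ X₁} {gE : E₁ ⟶ E} (hE : IsPullback gE e₁ e gX) {π₁ : E₁ ⟶ Z₁}
    (hπ : π₁ ≫ i₁ = e₁ ≫ b₁) : HTop.IsAlmostBlowUpSquare e₁ π₁ b₁ i₁ := by
  haveI := h.isClosedImmersion
  haveI := h.finitePresentation_base
  haveI := h.isProper
  haveI := h.finitePresentation
  haveI hi₁ : IsClosedImmersion i₁ := MorphismProperty.of_isPullback hZ ‹_›
  haveI : LocallyOfFinitePresentation i₁ := MorphismProperty.of_isPullback hZ ‹_›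
  haveI : IsProper b₁ := MorphismProperty.of_isPullback hX ‹_›
  haveI : LocallyOfFinitePresentation b₁ := MorphismProperty.of_isPullback hX ‹_›
  -- the exceptional corner is the inverse image of the new centre
  have hsq : IsPullback e₁ π₁ b₁ i₁ := by
    refine ⟨⟨hπ.symm⟩, ⟨PullbackCone.IsLimit.mk _ (fun s => hE.lift
      (h.isPullback.lift (s.fst ≫ gX) (s.snd ≫ gZ) ?_) s.fst (h.isPullback.lift_fst _ _ _)) (fun s => ?_)
      (fun s => ?_) (fun s m hm₁ hm₂ => ?_)⟩⟩
    · rw [Category.assoc, Category.assoc, hX.w, hZ.w, reassoc_of% s.condition]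
    · exact hE.lift_snd _ _ _
    · rw [← cancel_mono i₁, Category.assoc, hπ, ← Category.assoc, hE.lift_snd]
      exact s.condition
    · refine hE.hom_ext ?_ (by rw [hm₁, hE.lift_snd])
      rw [hE.lift_fst]
      refine h.isPullback.hom_ext ?_ ?_
      · rw [Category.assoc, hE.w, reassoc_of% hm₁, h.isPullback.lift_fst]
      · rw [h.isPullback.lift_snd, ← cancel_mono i, Category.assoc, Category.assoc, Category.assoc,
          ← h.isPullback.w, reassoc_of% hE.w, hX.w, hZ.w, reassoc_of% hm₁, reassoc_of% s.condition]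
  let J := i.ker.comap b
  let J₁ := i₁.ker.comap b₁
  have hJ₁ : J₁ = J.comap gX := by
    show i₁.ker.comap b₁ = (i.ker.comap b).comap gX
    rw [ker_isPullback hZ, ← Scheme.IdealSheafData.comap_comp, ← Scheme.IdealSheafData.comap_comp, hX.w]
  have hloc : HTop.IsLocPrincipal J₁ := hJ₁ ▸ isLocPrincipal_comap gX h.locPrincipal
  refine ⟨hi₁, ‹_›, hsq, hloc, ‹_›, ‹_›, ⟨?_, fun T g₁ hg₁ => ?_⟩⟩
  · rw [Scheme.IdealSheafData.comap_comp]
    exact isEffCartierIdeal_comap_supportedOn hloc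
  · let σ := (HTop.supportedOn J).subschemeι
    let σ₁ := (HTop.supportedOn J₁).subschemeι
    have hg : BlowUp.IsEffCartierIdeal (i.ker.comap (g₁ ≫ g)) := by
      rw [Scheme.IdealSheafData.comap_comp, ← ker_isPullback hZ]
      exact hg₁
    obtain ⟨l, hl, huniq⟩ := h.isBlowUp.2 T (g₁ ≫ g) hg
    have hl' : (l ≫ σ) ≫ b = g₁ ≫ g := (Category.assoc _ _ _).trans hl
    let l₁ := hX.lift (l ≫ σ) g₁ hl'
    have hl₁ : l₁ ≫ b₁ = g₁ := hX.lift_snd _ _ _
    have hker : HTop.supportedOn J₁ ≤ l₁.ker := supportedOn_le_ker l₁ (by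
      rw [← Scheme.IdealSheafData.comap_comp, hl₁]; exact hg₁)
    let m := IsClosedImmersion.lift σ₁ l₁ (by rw [Scheme.IdealSheafData.ker_subschemeι]; exact hker)
    have hm : m ≫ σ₁ = l₁ := IsClosedImmersion.lift_fac _ _ _
    refine ⟨m, show m ≫ σ₁ ≫ b₁ = g₁ by rw [← Category.assoc, hm, hl₁], fun m' hm' => ?_⟩
    rw [← cancel_mono σ₁, hm]
    have h₂ : (m' ≫ σ₁) ≫ b₁ = g₁ := (Category.assoc _ _ _).trans hm'
    refine hX.hom_ext ?_ (by rw [h₂, hl₁])
    have h₃ : ((m' ≫ σ₁) ≫ gX) ≫ b = g₁ ≫ g := by rw [Category.assoc, hX.w, ← Category.assoc, h₂]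
    have hker' : HTop.supportedOn J ≤ ((m' ≫ σ₁) ≫ gX).ker := supportedOn_le_ker _ (by
      rw [← Scheme.IdealSheafData.comap_comp, h₃]; exact hg)
    let n := IsClosedImmersion.lift σ ((m' ≫ σ₁) ≫ gX) (by rw [Scheme.IdealSheafData.ker_subschemeι]; exact hker')
    have hn : n ≫ σ = (m' ≫ σ₁) ≫ gX := IsClosedImmersion.lift_fac _ _ _
    have : n = l := huniq n (show n ≫ σ ≫ b = g₁ ≫ g by rw [← Category.assoc, hn, h₃])
    rw [← hn, this, hX.lift_fst]

end Groth.Agent.HTopSq
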