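import Groth.Agent.HTopSq.Basic
import Groth.Agent.BlowUp.Glue
import Groth.Agent.BlowUpProper.Basic
import Groth.Agent.LimLib.RelApprox
import Groth.Agent.LimLib.FGIdeal
import Groth.Agent.LimLib.Immersion
import Groth.Agent.LimLib.Eventual
import Groth.Agent.LimLib.Props
import Groth.Agent.S8983

/-!
# Existence and domination of almost blow up squares
-/

set_option autoImplicit false
set_option linter.style.haveILetI false

universe u

open CategoryTheory CategoryTheory.Limits AlgebraicGeometry TopologicalSpace Opposite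
open Groth.Agent.IdealSh

namespace Groth.Agent.HTopSq

theorem isPullback_ker_comap {X X₀ Z : Scheme.{u}} (i : Z ⟶ X) [IsClosedImmersion i] (p : X ⟶ X₀)
    (G : X₀.IdealSheafData) (h : G.comap p = i.ker) :
    ∃ gZ : Z ⟶ G.subscheme, IsPullback gZ i G.subschemeι p := by
  let q := pullback.fst p G.subschemeι
  have hq : q.ker = i.ker := h
  let a := IsClosedImmersion.lift q i hq.le
  let c := IsClosedImmersion.lift i q hq.ge
  have ha : a ≫ q = i := IsClosedImmersion.lift_fac _ _ _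
  have hc : c ≫ i = q := IsClosedImmersion.lift_fac _ _ _
  let e : Z ≅ pullback p G.subschemeι :=
    ⟨a, c, by rw [← cancel_mono i, Category.assoc, hc, ha, Category.id_comp],
      by rw [← cancel_mono q, Category.assoc, ha, hc, Category.id_comp]⟩
  exact ⟨a ≫ pullback.snd p G.subschemeι, (IsPullback.of_hasPullback p G.subschemeι).flip.of_iso
    e.symm (Iso.refl _) (Iso.refl _) (Iso.refl _)
    (show pullback.snd p G.subschemeι ≫ 𝟙 _ = c ≫ a ≫ pullback.snd p G.subschemeι by
      rw [Category.comp_id, ← Category.assoc, show c ≫ a = 𝟙 _ from e.inv_hom_id, Category.id_comp])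
    (show q ≫ 𝟙 _ = c ≫ i by rw [Category.comp_id, hc]) (by simp) (by simp)⟩

/-- Over a Noetherian base a blow-up gives an almost blow up square. -/
theorem exists_square_of_isLocallyNoetherian {X : Scheme.{u}} [IsLocallyNoetherian X]
    (G : X.IdealSheafData) (hG : BlowUp.IsFiniteTypeIdeal G) :
    ∃ (E X' : Scheme.{u}) (e : E ⟶ X') (π : E ⟶ G.subscheme) (b : X' ⟶ X),
      HTop.IsAlmostBlowUpSquare e π b G.subschemeι := by
  obtain ⟨B, b, hb⟩ := Groth.Agent.BlowUp.Glue.exists_isBlowUp X G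
  haveI : IsProper b := BlowUpProper.Basic.isProper hb hG
  haveI : LocallyOfFinitePresentation b := inferInstance
  haveI : LocallyOfFinitePresentation G.subschemeι := inferInstance
  refine ⟨_, B, pullback.fst b G.subschemeι, pullback.snd b G.subschemeι, b, inferInstance, ‹_›,
    .of_hasPullback _ _, ?_, ‹_›, ‹_›, ?_⟩
  · rw [Scheme.IdealSheafData.ker_subschemeι]
    intro x
    obtain ⟨U, hx, f, -, hf⟩ := hb.1 x
    exact ⟨U, hx, f, hf⟩
  · rw [Scheme.IdealSheafData.ker_subschemeι, supportedOn_eq_bot hb.1]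
    haveI : IsIso (⊥ : B.IdealSheafData).subschemeι :=
      IsClosedImmersion.isIso_iff_ker_eq_bot.2 (Scheme.IdealSheafData.ker_subschemeι _)
    exact Groth.Agent.BlowUp.Basic.isBlowUp_iso_comp hb (asIso (⊥ : B.IdealSheafData).subschemeι)

theorem exists_square {Z X : Scheme.{u}} [CompactSpace X] [QuasiSeparatedSpace X] (i : Z ⟶ X)
    [IsClosedImmersion i] [LocallyOfFinitePresentation i] :
    ∃ (E X' : Scheme.{u}) (e : E ⟶ X') (π : E ⟶ Z) (b : X' ⟶ X),
      HTop.IsAlmostBlowUpSquare e π b i := by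
  obtain ⟨P⟩ := LimLib.nonempty_ftSystem X
  haveI : ∀ j, QuasiSeparatedSpace (P.D.obj j) := fun j => inferInstance
  obtain ⟨j, G, hG, hGi⟩ := LimLib.exists_fg_descend P.isLimit.some i.ker (LimLib.fg_ker_ideal i)
  let p : X ⟶ P.D.obj j := P.π.app j
  obtain ⟨gZ, hZ⟩ := isPullback_ker_comap i p G hGi
  obtain ⟨E₀, X₀, e₀, π₀, b₀, h₀⟩ := exists_square_of_isLocallyNoetherian G hG
  let gX := pullback.fst b₀ p
  let b₁ := pullback.snd b₀ p
  let gE := pullback.fst e₀ gX
  let e₁ := pullback.snd e₀ gX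
  refine ⟨pullback e₀ gX, _, e₁, hZ.lift (gE ≫ π₀) (e₁ ≫ b₁) ?_, b₁,
    isAlmostBlowUpSquare_baseChange h₀ p (.of_hasPullback b₀ p) hZ (.of_hasPullback e₀ gX)
      (hZ.lift_snd _ _ _)⟩
  rw [Category.assoc, Category.assoc, ← h₀.isPullback.w, ← pullback.condition,
    ← pullback.condition_assoc]

set_option maxHeartbeats 800000 in
theorem exists_dominating {Z X E₁ X₁ E₂ X₂ : Scheme.{u}} [CompactSpace X] [QuasiSeparatedSpace X]
    (i : Z ⟶ X) [IsClosedImmersion i] [LocallyOfFinitePresentation i] {e₁ : E₁ ⟶ X₁} {π₁ : E₁ ⟶ Z}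
    {b₁ : X₁ ⟶ X} (h₁ : HTop.IsAlmostBlowUpSquare e₁ π₁ b₁ i) {e₂ : E₂ ⟶ X₂} {π₂ : E₂ ⟶ Z}
    {b₂ : X₂ ⟶ X} (h₂ : HTop.IsAlmostBlowUpSquare e₂ π₂ b₂ i) :
    ∃ (E X' : Scheme.{u}) (e : E ⟶ X') (π : E ⟶ Z) (b : X' ⟶ X) (j₁ : X' ⟶ X₁) (j₂ : X' ⟶ X₂),
      HTop.IsAlmostBlowUpSquare e π b i ∧ IsClosedImmersion j₁ ∧ IsClosedImmersion j₂ ∧
        j₁ ≫ b₁ = b ∧ j₂ ≫ b₂ = b := by
  haveI := h₁.isProper
  haveI := h₂.isProper
  haveI := h₁.finitePresentation
  haveI := h₂.finitePresentation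
  let σ₁ := (HTop.supportedOn (i.ker.comap b₁)).subschemeι
  let σ₂ := (HTop.supportedOn (i.ker.comap b₂)).subschemeι
  obtain ⟨θ, hθ⟩ := Groth.Agent.BlowUp.Basic.exists_iso h₂.isBlowUp h₁.isBlowUp
  let p₁ := pullback.fst b₁ b₂
  let p₂ := pullback.snd b₁ b₂
  let h : (HTop.supportedOn (i.ker.comap b₁)).subscheme ⟶ pullback b₁ b₂ :=
    pullback.lift σ₁ (θ.hom ≫ σ₂) (by rw [Category.assoc]; exact hθ.symm)
  have hh₁ : h ≫ p₁ = σ₁ := pullback.lift_fst _ _ _
  have hh₂ : h ≫ p₂ = θ.hom ≫ σ₂ := pullback.lift_snd _ _ _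
  haveI : IsClosedImmersion (h ≫ p₁) := by rw [hh₁]; infer_instance
  haveI : IsClosedImmersion h := IsClosedImmersion.of_comp h p₁
  haveI : CompactSpace X₁ := QuasiCompact.compactSpace_of_compactSpace b₁
  haveI : QuasiSeparatedSpace X₁ := quasiSeparatedSpace_of_quasiSeparated b₁
  haveI : CompactSpace X₂ := QuasiCompact.compactSpace_of_compactSpace b₂
  haveI : QuasiSeparatedSpace X₂ := quasiSeparatedSpace_of_quasiSeparated b₂
  haveI : CompactSpace ↑(pullback b₁ b₂) := QuasiCompact.compactSpace_of_compactSpace p₁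
  haveI : QuasiSeparatedSpace ↑(pullback b₁ b₂) := quasiSeparatedSpace_of_quasiSeparated p₁
  obtain ⟨J, _, _, _, F, hF, hK⟩ := LimLib.exists_iSup_fg_eq h.ker
  haveI hlfp : ∀ j : J, LocallyOfFinitePresentation (F j).subschemeι := fun j =>
    (LimLib.lfp_subschemeι_iff (F j)).mpr (hF j)
  haveI : IsConnected Jᵒᵖ := IsCofiltered.isConnected _
  let D : Jᵒᵖ ⥤ Scheme.{u} := LimLib.idealDiagram F ⋙ Over.forget _
  let c : Cone D := (Over.forget _).mapCone (LimLib.idealCone F h hK)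
  have hc : IsLimit c := isLimitOfPreserves _ (LimLib.isLimitIdealCone F h hK)
  have htr : ∀ (a b : Jᵒᵖ) (f : a ⟶ b), IsClosedImmersion (D.map f) := fun a b f =>
    inferInstanceAs (IsClosedImmersion ((LimLib.idealDiagram F).map f).left)
  haveI : ∀ (a b : Jᵒᵖ) (f : a ⟶ b), IsAffineHom (D.map f) := fun a b f => by
    haveI := htr a b f; infer_instance
  haveI hci : ∀ j : J, IsClosedImmersion (F j).subschemeι := fun j => IsClosedImmersion.instSubschemeι _
  haveI hqc : ∀ j : J, QuasiCompact (F j).subschemeι := fun j => by haveI := hci j; infer_instance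
  haveI hqs : ∀ j : J, QuasiSeparated (F j).subschemeι := fun j => by haveI := hci j; infer_instance
  haveI : ∀ a, CompactSpace (D.obj a) := fun a =>
    @QuasiCompact.compactSpace_of_compactSpace _ _ (F a.unop).subschemeι (hqc _) inferInstance
  haveI : ∀ a, QuasiSeparatedSpace (D.obj a) := fun a =>
    @quasiSeparatedSpace_of_quasiSeparated _ _ (F a.unop).subschemeι inferInstance (hqs _)
  obtain ⟨a₀⟩ : Nonempty Jᵒᵖ := ⟨op (Classical.arbitrary _)⟩
  have hfac : ∀ a, c.π.app a ≫ (F a.unop).subschemeι = h := fun a =>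
    Over.w ((LimLib.idealCone F h hK).π.app a)
  have key : ∀ {W : Scheme.{u}} [CompactSpace W] [QuasiSeparatedSpace W] (q : pullback b₁ b₂ ⟶ W)
      [LocallyOfFiniteType q], IsClosedImmersion (h ≫ q) →
      ∃ a₁ : Jᵒᵖ, ∀ a, (a ⟶ a₁) → IsClosedImmersion ((F a.unop).subschemeι ≫ q) := by
    intro W _ _ q _ hq
    let t : D ⟶ (Functor.const Jᵒᵖ).obj W :=
      { app := fun a => (F a.unop).subschemeι ≫ q
        naturality := fun a b f => by
          show _ ≫ (F b.unop).subschemeι ≫ q = ((F a.unop).subschemeι ≫ q) ≫ 𝟙 _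
          rw [Category.comp_id, ← Category.assoc]
          exact congrArg (· ≫ q) (Over.w ((LimLib.idealDiagram F).map f)) }
    haveI : LocallyOfFiniteType (t.app a₀) :=
      inferInstanceAs (LocallyOfFiniteType ((F a₀.unop).subschemeι ≫ q))
    haveI : IsClosedImmersion (c.π.app a₀ ≫ t.app a₀) := by
      show IsClosedImmersion (c.π.app a₀ ≫ (F a₀.unop).subschemeι ≫ q)
      rw [← Category.assoc, hfac]; exact hq
    exact LimLib.eventually_isClosedImmersion t hc htr a₀
  obtain ⟨a₁, ha₁⟩ := key p₁ ‹_›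
  obtain ⟨a₂, ha₂⟩ := key p₂ (by rw [hh₂]; infer_instance)
  let a := IsCofiltered.min a₁ a₂
  let w : (F a.unop).subscheme ⟶ X₁ := (F a.unop).subschemeι ≫ p₁
  haveI : IsClosedImmersion w := ha₁ a (IsCofiltered.minToLeft _ _)
  haveI : LocallyOfFinitePresentation (w ≫ b₁) := by
    show LocallyOfFinitePresentation (((F a.unop).subschemeι ≫ p₁) ≫ b₁)
    infer_instance
  haveI : LocallyOfFinitePresentation w :=
    MorphismProperty.of_postcomp (W := @LocallyOfFinitePresentation) (W' := @LocallyOfFiniteType) w b₁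
      inferInstance ‹_›
  have hle : w.ker ≤ HTop.supportedOn (i.ker.comap b₁) := by
    let l : (HTop.supportedOn (i.ker.comap b₁)).subscheme ⟶ (F a.unop).subscheme := c.π.app a
    have hl : l ≫ (F a.unop).subschemeι = h := hfac a
    have : l ≫ w = σ₁ := by rw [← Category.assoc, hl, hh₁]
    refine (Scheme.Hom.le_ker_comp l w).trans ?_
    rw [this]
    exact (Scheme.IdealSheafData.ker_subschemeι _).le
  exact ⟨_, _, pullback.snd e₁ w, pullback.fst e₁ w ≫ π₁, w ≫ b₁, w, (F a.unop).subschemeι ≫ p₂,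
    (Groth.Agent.S8983.result h₁ w (.of_hasPullback e₁ w)).1 hle, inferInstance,
    ha₂ a (IsCofiltered.minToRight _ _), rfl,
    by rw [Category.assoc, Category.assoc, pullback.condition]⟩

end Groth.Agent.HTopSq
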